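import Groth.Agent.S2057
import Groth.Prelude.Def_W4stkadequatePure
import Mathlib.Algebra.Module.CharacterModule
import Mathlib.LinearAlgebra.DFinsupp
import Mathlib.Algebra.Module.FinitePresentation
import Mathlib.LinearAlgebra.TensorProduct.RightExactness

set_option autoImplicit false
universe u

open TensorProduct

namespace Groth.Agent.PureExt8

variable {R : Type u} [CommRing R]

/-- Pure projective module. -/
abbrev PureProj (R : Type u) [CommRing R] (P : Type u) [AddCommGroup P] [Module R P] : Prop :=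
  ∀ ⦃L T : Type u⦄ [AddCommGroup L] [Module R L] [AddCommGroup T] [Module R T] (g : L →ₗ[R] T),
    Function.Surjective g → CAlgX.UniversallyInjective R (LinearMap.ker g).subtype →
    ∀ φ : P →ₗ[R] T, ∃ ψ : P →ₗ[R] L, g ∘ₗ ψ = φ

/-- Pure injective module. -/
abbrev PureInj (R : Type u) [CommRing R] (I : Type u) [AddCommGroup I] [Module R I] : Prop :=
  ∀ ⦃K L : Type u⦄ [AddCommGroup K] [Module R K] [AddCommGroup L] [Module R L] (f : K →ₗ[R] L),
    CAlgX.UniversallyInjective R f → ∀ φ : K →ₗ[R] I, ∃ ψ : L →ₗ[R] I, ψ ∘ₗ f = φ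

theorem pureInj_characterModule (Q : Type u) [AddCommGroup Q] [Module R Q] :
    PureInj R (CharacterModule Q) := fun _ _ _ _ _ _ _ hf φ =>
  rTensor_injective_iff_lcomp_surjective.mp (hf Q) φ

theorem universallyInjective_charEval (M : Type u) [AddCommGroup M] [Module R M] :
    CAlgX.UniversallyInjective R (PureExt.charEval R M) := by
  intro Q _ _
  rw [rTensor_injective_iff_lcomp_surjective]
  intro φ
  let η : Q →ₗ[R] CharacterModule M :=
    { toFun := fun q =>
        { toFun := fun m => φ m q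
          map_zero' := by rw [map_zero]; rfl
          map_add' := fun a b => by rw [map_add]; rfl }
      map_add' := fun a b => by ext m; exact map_add (φ m) a b
      map_smul' := fun r q => by
        ext m
        show φ m (r • q) = φ (r • m) q
        exact (DFunLike.congr_fun (φ.map_smul r m) q).symm }
  refine ⟨CharacterModule.dual η, ?_⟩
  ext m q
  rfl

theorem pureInjective_iff_split (I : Type u) [AddCommGroup I] [Module R I] :
    PureInj R I ↔
    ∃ r : CharacterModule (CharacterModule I) →ₗ[R] I, r ∘ₗ PureExt.charEval R I = LinearMap.id := by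
  refine ⟨fun h => h _ (universallyInjective_charEval I) LinearMap.id, ?_⟩
  rintro ⟨r, hr⟩ K L _ _ _ _ f hf φ
  obtain ⟨ψ, hψ⟩ := pureInj_characterModule (CharacterModule I) f hf (PureExt.charEval R I ∘ₗ φ)
  exact ⟨r ∘ₗ ψ, by rw [LinearMap.comp_assoc, hψ, ← LinearMap.comp_assoc, hr, LinearMap.id_comp]⟩

theorem universallyInjective_of_comp {L M N : Type u} [AddCommGroup L] [Module R L] [AddCommGroup M]
    [Module R M] [AddCommGroup N] [Module R N] (f : L →ₗ[R] M) (g : M →ₗ[R] N)
    (h : CAlgX.UniversallyInjective R (g ∘ₗ f)) : CAlgX.UniversallyInjective R f := by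
  intro Q _ _
  have := h Q
  rw [LinearMap.rTensor_comp, LinearMap.coe_comp] at this
  exact this.of_comp

/-- The image of the middle map of a universally exact sequence is a pure submodule. -/
theorem universallyInjective_range {L M N : Type u} [AddCommGroup L] [Module R L] [AddCommGroup M]
    [Module R M] [AddCommGroup N] [Module R N] (f : L →ₗ[R] M) (g : M →ₗ[R] N)
    (h : ∀ (Q : Type u) [AddCommGroup Q] [Module R Q], Function.Exact (f.rTensor Q) (g.rTensor Q)) :
    CAlgX.UniversallyInjective R (LinearMap.range g).subtype := by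
  have hgf : ∀ x, g (f x) = 0 := fun x => by
    have := (h R).apply_apply_eq_zero (x ⊗ₜ 1)
    simpa using congrArg (TensorProduct.rid R N) this
  have h0 : g.rangeRestrict ∘ₗ f = 0 := LinearMap.ext fun x => Subtype.ext (hgf x)
  intro Q _ _
  rw [injective_iff_map_eq_zero]
  intro z hz
  obtain ⟨y, rfl⟩ := LinearMap.rTensor_surjective Q g.surjective_rangeRestrict z
  rw [← LinearMap.comp_apply, ← LinearMap.rTensor_comp,
    show (LinearMap.range g).subtype ∘ₗ g.rangeRestrict = g from rfl] at hz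
  obtain ⟨w, rfl⟩ := (h Q y).mp hz
  rw [← LinearMap.comp_apply, ← LinearMap.rTensor_comp, h0, LinearMap.rTensor_zero, LinearMap.zero_apply]

/-- A surjection along which all maps from finitely presented modules lift has pure kernel. -/
theorem universallyInjective_ker_of_lift {P M : Type u} [AddCommGroup P] [Module R P] [AddCommGroup M]
    [Module R M] (g : P →ₗ[R] M)
    (hlift : ∀ (F : Type u) [AddCommGroup F] [Module R F], Module.FinitePresentation R F →
      ∀ φ : F →ₗ[R] M, ∃ ψ : F →ₗ[R] P, g ∘ₗ ψ = φ) :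
    CAlgX.UniversallyInjective R (LinearMap.ker g).subtype := by
  classical
  rw [Groth.Agent.S2057.result _ (LinearMap.ker g).injective_subtype]
  intro n m x y a hxy
  let row : Fin n → (Fin m → R) := fun i j => a i j
  let N : Submodule R (Fin m → R) := Submodule.span R (Set.range row)
  have hfp : Module.FinitePresentation R ((Fin m → R) ⧸ N) :=
    Module.finitePresentation_of_surjective N.mkQ N.mkQ_surjective
      (by rw [N.ker_mkQ]; exact Submodule.fg_span (Set.finite_range _))
  let c : (Fin m → R) →ₗ[R] M := Fintype.linearCombination R fun j => g (y j)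
  have hc : N ≤ LinearMap.ker c := Submodule.span_le.mpr <| by
    rintro _ ⟨i, rfl⟩
    show c (row i) = 0
    rw [Fintype.linearCombination_apply]
    have h1 : g (x i : P) = 0 := (x i).2
    have h2 : (x i : P) = ∑ j, a i j • y j := hxy i
    simp only [h2, map_sum, map_smul] at h1
    exact h1
  obtain ⟨ψ, hψ⟩ := hlift _ hfp (N.liftQ c hc)
  have hψ' : ∀ v, g (ψ (N.mkQ v)) = c v := fun v => LinearMap.congr_fun hψ (N.mkQ v)
  refine ⟨fun j => ⟨y j - ψ (N.mkQ (Pi.single j 1)), ?_⟩, fun i => ?_⟩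
  · rw [LinearMap.mem_ker, map_sub, hψ']
    simp [c]
  · apply Subtype.ext
    simp only [AddSubmonoidClass.coe_finsetSum, SetLike.val_smul, smul_sub, Finset.sum_sub_distrib]
    rw [← hxy i]
    have h0 : ∑ j, a i j • ψ (N.mkQ (Pi.single j 1)) = 0 := by
      simp only [← map_smul, ← map_sum]
      rw [show (∑ j, a i j • (Pi.single j 1 : Fin m → R)) = row i from (pi_eq_sum_univ' (row i)).symm,
        (Submodule.Quotient.mk_eq_zero N).mpr (Submodule.subset_span ⟨i, rfl⟩) |> (id : _ → N.mkQ (row i) = 0),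
        map_zero]
    rw [h0, sub_zero]
    rfl

/-- A module which is a summand of a sum of finitely presented modules. -/
abbrev IsFPSummand (R : Type u) [CommRing R] (P : Type u) [AddCommGroup P] [Module R P] : Prop :=
  ∃ (ι : Type u) (Q : ι → Type u) (_ : ∀ i, AddCommGroup (Q i)) (_ : ∀ i, Module R (Q i)),
    (∀ i, Module.FinitePresentation R (Q i)) ∧
    ∃ (s : P →ₗ[R] (Π₀ i, Q i)) (r : (Π₀ i, Q i) →ₗ[R] P), r ∘ₗ s = LinearMap.id

theorem pure_cover_of_family {M : Type u} [AddCommGroup M] [Module R M] (ι : Type u) (Q : ι → Type u)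
    [∀ i, AddCommGroup (Q i)] [∀ i, Module R (Q i)] [DecidableEq ι] (f : ∀ i, Q i →ₗ[R] M)
    (h : ∀ (F : Type u) [AddCommGroup F] [Module R F], Module.FinitePresentation R F →
      ∀ φ : F →ₗ[R] M, ∃ (i : ι) (ψ : F →ₗ[R] Q i), f i ∘ₗ ψ = φ) :
    ∃ g : (Π₀ i, Q i) →ₗ[R] M, Function.Surjective g ∧
      CAlgX.UniversallyInjective R (LinearMap.ker g).subtype := by
  let g : (Π₀ i, Q i) →ₗ[R] M := DFinsupp.lsum ℕ f
  have hgi : ∀ i z, g (DFinsupp.single i z) = f i z := fun i z => DFinsupp.lsum_single ..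
  have hg : ∀ (F : Type u) [AddCommGroup F] [Module R F], Module.FinitePresentation R F →
      ∀ φ : F →ₗ[R] M, ∃ ψ : F →ₗ[R] (Π₀ i, Q i), g ∘ₗ ψ = φ := by
    intro F _ _ hF φ
    obtain ⟨i, ψ, hψ⟩ := h F hF φ
    exact ⟨DFinsupp.lsingle i ∘ₗ ψ, LinearMap.ext fun z => (hgi i (ψ z)).trans (LinearMap.congr_fun hψ z)⟩
  refine ⟨g, fun m => ?_, universallyInjective_ker_of_lift g hg⟩
  obtain ⟨ψ, hψ⟩ := hg R inferInstance (LinearMap.toSpanSingleton R M m)
  exact ⟨ψ 1, by simpa using LinearMap.congr_fun hψ 1⟩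

theorem exists_pure_cover (M : Type u) [AddCommGroup M] [Module R M] :
    ∃ (ι : Type u) (Q : ι → Type u) (_ : ∀ i, AddCommGroup (Q i)) (_ : ∀ i, Module R (Q i)),
      (∀ i, Module.FinitePresentation R (Q i)) ∧
      ∃ g : (Π₀ i, Q i) →ₗ[R] M, Function.Surjective g ∧
        CAlgX.UniversallyInjective R (LinearMap.ker g).subtype := by
  classical
  let ι : Type u := Σ n : ℕ, Σ N : {N : Submodule R (Fin n → R) // N.FG}, ((Fin n → R) ⧸ N.1) →ₗ[R] M
  let Q : ι → Type u := fun i => (Fin i.1 → R) ⧸ i.2.1.1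
  have hfp : ∀ i, Module.FinitePresentation R (Q i) := fun i =>
    Module.finitePresentation_of_surjective i.2.1.1.mkQ i.2.1.1.mkQ_surjective
      (by rw [Submodule.ker_mkQ]; exact i.2.1.2)
  refine ⟨ι, Q, inferInstance, inferInstance, hfp, pure_cover_of_family ι Q (fun i => i.2.2) ?_⟩
  intro F _ _ hF φ
  obtain ⟨n, π, hπ⟩ := Module.Finite.exists_fin' R F
  let i : ι := ⟨n, ⟨LinearMap.ker π, Module.FinitePresentation.fg_ker π hπ⟩,
    φ ∘ₗ (π.quotKerEquivOfSurjective hπ).toLinearMap⟩
  refine ⟨i, (π.quotKerEquivOfSurjective hπ).symm.toLinearMap, LinearMap.ext fun z => ?_⟩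
  show φ ((π.quotKerEquivOfSurjective hπ) ((π.quotKerEquivOfSurjective hπ).symm z)) = φ z
  rw [LinearEquiv.apply_symm_apply]

theorem lift_of_finitePresentation {F L T : Type u} [AddCommGroup F] [Module R F]
    [Module.FinitePresentation R F] [AddCommGroup L] [Module R L] [AddCommGroup T] [Module R T]
    (g : L →ₗ[R] T) (hg : Function.Surjective g) (hp : CAlgX.UniversallyInjective R (LinearMap.ker g).subtype)
    (φ : F →ₗ[R] T) : ∃ ψ : F →ₗ[R] L, g ∘ₗ ψ = φ := by
  classical
  obtain ⟨n, π, hπ⟩ := Module.Finite.exists_fin' R F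
  obtain ⟨σ, hσ⟩ := Module.projective_lifting_property g (φ ∘ₗ π) hg
  obtain ⟨k, rel, hrel⟩ := Submodule.fg_iff_exists_fin_generating_family.mp
    (Module.FinitePresentation.fg_ker π hπ)
  have hmem : ∀ i, σ (rel i) ∈ LinearMap.ker g := fun i => by
    have h1 : π (rel i) = 0 := (hrel ▸ Submodule.subset_span ⟨i, rfl⟩ : rel i ∈ LinearMap.ker π)
    have h2 := LinearMap.congr_fun hσ (rel i)
    simp only [LinearMap.comp_apply, h1, map_zero] at h2
    exact h2
  obtain ⟨z, hz⟩ := (Groth.Agent.S2057.result _ (LinearMap.ker g).injective_subtype).mp hp k n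
    (fun i => ⟨σ (rel i), hmem i⟩) (fun j => σ (Pi.single j 1)) (fun i j => rel i j) fun i => by
      show σ (rel i) = ∑ j, rel i j • σ (Pi.single j 1)
      conv_lhs => rw [pi_eq_sum_univ' (rel i), map_sum]
      simp
  let δ : (Fin n → R) →ₗ[R] L := σ - Fintype.linearCombination R fun j => (z j : L)
  have hle : LinearMap.ker π ≤ LinearMap.ker δ := by
    rw [← hrel, Submodule.span_le]
    rintro _ ⟨i, rfl⟩
    have := congrArg Subtype.val (hz i)
    simp only [AddSubmonoidClass.coe_finsetSum, SetLike.val_smul] at this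
    simp [δ, Fintype.linearCombination_apply, ← this]
  refine ⟨(LinearMap.ker π).liftQ δ hle ∘ₗ (π.quotKerEquivOfSurjective hπ).symm.toLinearMap,
    LinearMap.ext fun f => ?_⟩
  obtain ⟨v, rfl⟩ := hπ f
  simp only [LinearMap.comp_apply, LinearEquiv.coe_coe]
  rw [LinearMap.quotKerEquivOfSurjective_symm_apply, Submodule.liftQ_apply]
  simp only [δ, LinearMap.sub_apply, map_sub, Fintype.linearCombination_apply, map_sum, map_smul]
  rw [Finset.sum_eq_zero (fun j _ => by rw [(z j).2, smul_zero]), sub_zero]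
  exact LinearMap.congr_fun hσ v

theorem pureProj_of_summand {P : Type u} [AddCommGroup P] [Module R P] (h : IsFPSummand R P) :
    PureProj R P := by
  classical
  obtain ⟨ι, Q, _, _, hQ, s, r, hrs⟩ := h
  intro L T _ _ _ _ g hg hp φ
  have h1 : ∀ i, ∃ ψ : Q i →ₗ[R] L, g ∘ₗ ψ = φ ∘ₗ r ∘ₗ DFinsupp.lsingle i := fun i =>
    haveI := hQ i
    lift_of_finitePresentation g hg hp _
  choose ψ hψ using h1
  refine ⟨DFinsupp.lsum ℕ ψ ∘ₗ s, ?_⟩
  have h2 : g ∘ₗ DFinsupp.lsum ℕ ψ = φ ∘ₗ r := DFinsupp.lhom_ext' fun i => by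
    rw [LinearMap.comp_assoc, LinearMap.comp_assoc, ← hψ i]
    ext z
    simp
  rw [← LinearMap.comp_assoc, h2, LinearMap.comp_assoc, hrs, LinearMap.comp_id]

theorem pureProjective_iff (P : Type u) [AddCommGroup P] [Module R P] :
    PureProj R P ↔ IsFPSummand R P := by
  refine ⟨fun h => ?_, pureProj_of_summand⟩
  obtain ⟨ι, Q, _, _, hQ, g, hg, hp⟩ := exists_pure_cover (R := R) P
  obtain ⟨s, hs⟩ := h g hg hp LinearMap.id
  exact ⟨ι, Q, inferInstance, inferInstance, hQ, s, g, hs⟩

end Groth.Agent.PureExt8
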