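import Groth.Agent.PureExt8.Basic
import Mathlib

set_option autoImplicit false
universe u

open CategoryTheory Limits MonoidalCategory

namespace Groth.Agent.PureExt8

variable {R : Type u} [CommRing R]

/-- Exactness after tensoring with every module. -/
abbrev UExact {A B C : ModuleCat.{u} R} (f : A ⟶ B) (g : B ⟶ C) : Prop :=
  ∀ (T : Type u) [AddCommGroup T] [Module R T], Function.Exact (f.hom.rTensor T) (g.hom.rTensor T)

theorem UExact.exact {A B C : ModuleCat.{u} R} {f : A ⟶ B} {g : B ⟶ C} (h : UExact f g) :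
    Function.Exact f.hom g.hom := by
  intro y
  constructor
  · intro hy
    obtain ⟨x, hx⟩ := (h R (y ⊗ₜ 1)).mp (by simp [hy])
    refine ⟨TensorProduct.rid R A x, ?_⟩
    have h1 := congrArg (TensorProduct.rid R B) hx
    simp only [TensorProduct.rid_tmul, one_smul] at h1
    rw [← h1]
    clear h1 hx
    induction x using TensorProduct.induction_on with
    | zero => simp
    | tmul a r => simp
    | add p q hp hq => simp [map_add, hp, hq]
  · rintro ⟨x, rfl⟩
    have := (h R).apply_apply_eq_zero (x ⊗ₜ 1)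
    simpa using congrArg (TensorProduct.rid R C) this

theorem UExact.pure_range {A B C : ModuleCat.{u} R} {f : A ⟶ B} {g : B ⟶ C} (h : UExact f g) :
    CAlgX.UniversallyInjective R (LinearMap.range g.hom).subtype :=
  universallyInjective_range f.hom g.hom fun T _ _ => h T

theorem exact_of_pure_range {A B C : Type u} [AddCommGroup A] [Module R A] [AddCommGroup B] [Module R B]
    [AddCommGroup C] [Module R C] (d : A →ₗ[R] B) (f : B →ₗ[R] C) (h : Function.Exact d f)
    (hp : CAlgX.UniversallyInjective R (LinearMap.range f).subtype)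
    (T : Type u) [AddCommGroup T] [Module R T] : Function.Exact (d.rTensor T) (f.rTensor T) := by
  have h1 : Function.Exact d f.rangeRestrict := fun y => by
    rw [← h y]
    exact Subtype.ext_iff
  intro z
  rw [← rTensor_exact T h1 f.surjective_rangeRestrict z]
  constructor
  · intro hz
    apply hp T
    rw [map_zero, ← LinearMap.comp_apply, ← LinearMap.rTensor_comp]
    exact hz
  · intro hz
    rw [show f = (LinearMap.range f).subtype ∘ₗ f.rangeRestrict from rfl, LinearMap.rTensor_comp,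
      LinearMap.comp_apply, hz, map_zero]

theorem surjective_of_rTensor {A B : Type u} [AddCommGroup A] [Module R A] [AddCommGroup B] [Module R B]
    (f : A →ₗ[R] B) (h : Function.Surjective (f.rTensor R)) : Function.Surjective f := by
  intro b
  obtain ⟨z, hz⟩ := h (b ⊗ₜ 1)
  refine ⟨TensorProduct.rid R A z, ?_⟩
  have h1 := congrArg (TensorProduct.rid R B) hz
  rw [TensorProduct.rid_tmul, one_smul] at h1
  rw [← h1]
  clear hz h1
  induction z using TensorProduct.induction_on with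
  | zero => simp
  | tmul a r => simp
  | add p q hp hq => simp [map_add, hp, hq]

/-- Lifting step. -/
theorem lift_step {P K L X : ModuleCat.{u} R} (hP : PureProj R P) (c : K ⟶ L) (a : L ⟶ X)
    (hca : Function.Exact c.hom a.hom) (hc : CAlgX.UniversallyInjective R (LinearMap.range c.hom).subtype)
    (φ : P ⟶ X) (hφ : ∀ p, φ.hom p ∈ LinearMap.range a.hom) : ∃ ψ : P ⟶ L, ψ ≫ a = φ := by
  have hker : LinearMap.ker a.hom.rangeRestrict = LinearMap.range c.hom := by
    rw [LinearMap.ker_rangeRestrict, hca.linearMap_ker_eq]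
  obtain ⟨ψ, hψ⟩ := hP a.hom.rangeRestrict a.hom.surjective_rangeRestrict (by rw [hker]; exact hc)
    (φ.hom.codRestrict _ hφ)
  refine ⟨ModuleCat.ofHom ψ, ModuleCat.hom_ext ?_⟩
  ext p
  exact congrArg Subtype.val (LinearMap.congr_fun hψ p)

/-- Extension step. -/
theorem ext_step {X L I : ModuleCat.{u} R} (hI : PureInj R I) (a : X ⟶ L)
    (ha : CAlgX.UniversallyInjective R (LinearMap.range a.hom).subtype)
    (φ : X ⟶ I) (hφ : LinearMap.ker a.hom ≤ LinearMap.ker φ.hom) : ∃ ψ : L ⟶ I, a ≫ ψ = φ := by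
  let φ' : LinearMap.range a.hom →ₗ[R] I :=
    (LinearMap.ker a.hom).liftQ φ.hom hφ ∘ₗ a.hom.quotKerEquivRange.symm.toLinearMap
  obtain ⟨ψ, hψ⟩ := hI _ ha φ'
  refine ⟨ModuleCat.ofHom ψ, ModuleCat.hom_ext ?_⟩
  ext x
  have h1 := LinearMap.congr_fun hψ ⟨a.hom x, LinearMap.mem_range_self _ x⟩
  simp only [φ', LinearMap.comp_apply, Submodule.subtype_apply, LinearEquiv.coe_coe] at h1
  rw [LinearMap.quotKerEquivRange_symm_apply_image, Submodule.mkQ_apply, Submodule.liftQ_apply] at h1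
  exact h1

theorem function_exact_iff (S : ShortComplex (ModuleCat.{u} R)) :
    S.Exact ↔ Function.Exact S.f.hom S.g.hom :=
  ShortComplex.ShortExact.moduleCat_exact_iff_function_exact S

theorem quasiIso_to_single₀_iff {K : ChainComplex (ModuleCat.{u} R) ℕ} {X : ModuleCat.{u} R}
    (φ : K ⟶ (ChainComplex.single₀ (ModuleCat.{u} R)).obj X) :
    QuasiIso φ ↔ (Function.Exact (K.d 1 0).hom (φ.f 0).hom ∧ Function.Surjective (φ.f 0).hom) ∧
      ∀ n, Function.Exact (K.d (n + 2) (n + 1)).hom (K.d (n + 1) n).hom := by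
  have hw : K.d 1 0 ≫ φ.f 0 = 0 := by rw [← φ.comm 1 0, HomologicalComplex.single_obj_d, comp_zero]
  have h0 : QuasiIsoAt φ 0 ↔ (Function.Exact (K.d 1 0).hom (φ.f 0).hom ∧ Function.Surjective (φ.f 0).hom) := by
    rw [ChainComplex.quasiIsoAt₀_iff, ShortComplex.quasiIso_iff_of_zeros', function_exact_iff,
      ModuleCat.epi_iff_surjective]
    · rfl
    · simp; rfl
    · rfl
    · rfl
  have hs : ∀ n, QuasiIsoAt φ (n + 1) ↔
      Function.Exact (K.d (n + 2) (n + 1)).hom (K.d (n + 1) n).hom := fun n => by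
    rw [quasiIsoAt_iff_exactAt' φ (n + 1) (ChainComplex.exactAt_succ_single_obj _ _),
      HomologicalComplex.exactAt_iff' _ (n + 2) (n + 1) n (by simp) (by simp), function_exact_iff]
    rfl
  constructor
  · intro h
    exact ⟨h0.mp (h.quasiIsoAt 0), fun n => (hs n).mp (h.quasiIsoAt _)⟩
  · rintro ⟨h1, h2⟩
    exact ⟨fun i => match i with | 0 => h0.mpr h1 | n + 1 => (hs n).mpr (h2 n)⟩

theorem quasiIso_from_single₀_iff {K : CochainComplex (ModuleCat.{u} R) ℕ} {X : ModuleCat.{u} R}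
    (φ : (CochainComplex.single₀ (ModuleCat.{u} R)).obj X ⟶ K) :
    QuasiIso φ ↔ (Function.Exact (φ.f 0).hom (K.d 0 1).hom ∧ Function.Injective (φ.f 0).hom) ∧
      ∀ n, Function.Exact (K.d n (n + 1)).hom (K.d (n + 1) (n + 2)).hom := by
  have h0 : QuasiIsoAt φ 0 ↔ (Function.Exact (φ.f 0).hom (K.d 0 1).hom ∧ Function.Injective (φ.f 0).hom) := by
    rw [CochainComplex.quasiIsoAt₀_iff, ShortComplex.quasiIso_iff_of_zeros, function_exact_iff,
      ModuleCat.mono_iff_injective]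
    · rfl
    · rfl
    · rfl
    · simp; rfl
  have hs : ∀ n, QuasiIsoAt φ (n + 1) ↔
      Function.Exact (K.d n (n + 1)).hom (K.d (n + 1) (n + 2)).hom := fun n => by
    rw [quasiIsoAt_iff_exactAt φ (n + 1) (CochainComplex.exactAt_succ_single_obj _ _),
      HomologicalComplex.exactAt_iff' _ n (n + 1) (n + 2) (by simp) (by simp), function_exact_iff]
    rfl
  constructor
  · intro h
    exact ⟨h0.mp (h.quasiIsoAt 0), fun n => (hs n).mp (h.quasiIsoAt _)⟩
  · rintro ⟨h1, h2⟩
    exact ⟨fun i => match i with | 0 => h0.mpr h1 | n + 1 => (hs n).mpr (h2 n)⟩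

theorem chain_uexact_iff {K : ChainComplex (ModuleCat.{u} R) ℕ} {M : ModuleCat.{u} R}
    (π : K ⟶ (ChainComplex.single₀ (ModuleCat.{u} R)).obj M) :
    (∀ T : ModuleCat.{u} R,
      QuasiIso (((MonoidalCategory.tensorRight T).mapHomologicalComplex (ComplexShape.down ℕ)).map π)) ↔
    (UExact (K.d 1 0) (π.f 0) ∧ ∀ (T : Type u) [AddCommGroup T] [Module R T],
        Function.Surjective ((π.f 0).hom.rTensor T)) ∧
      ∀ n, UExact (K.d (n + 2) (n + 1)) (K.d (n + 1) n) := by
  have key : ∀ T : ModuleCat.{u} R,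
      QuasiIso (((MonoidalCategory.tensorRight T).mapHomologicalComplex (ComplexShape.down ℕ)).map π) ↔
      (Function.Exact ((K.d 1 0).hom.rTensor T) ((π.f 0).hom.rTensor T) ∧
        Function.Surjective ((π.f 0).hom.rTensor T)) ∧
      ∀ n, Function.Exact ((K.d (n + 2) (n + 1)).hom.rTensor T) ((K.d (n + 1) n).hom.rTensor T) := by
    intro T
    rw [← quasiIso_iff_comp_right _
      ((HomologicalComplex.singleMapHomologicalComplex (MonoidalCategory.tensorRight T)
        (ComplexShape.down ℕ) 0).hom.app M)]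
    refine (quasiIso_to_single₀_iff (K := ((MonoidalCategory.tensorRight T).mapHomologicalComplex _).obj K)
      (((MonoidalCategory.tensorRight T).mapHomologicalComplex (ComplexShape.down ℕ)).map π ≫
      (HomologicalComplex.singleMapHomologicalComplex (MonoidalCategory.tensorRight T)
        (ComplexShape.down ℕ) 0).hom.app M)).trans ?_
    simp [ModuleCat.hom_whiskerRight, HomologicalComplex.singleObjXSelf, HomologicalComplex.singleObjXIsoOfEq]
    rfl
  constructor
  · intro h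
    exact ⟨⟨fun T _ _ => ((key (ModuleCat.of R T)).mp (h _)).1.1,
      fun T _ _ => ((key (ModuleCat.of R T)).mp (h _)).1.2⟩,
      fun n T _ _ => ((key (ModuleCat.of R T)).mp (h _)).2 n⟩
  · rintro ⟨⟨h1, h2⟩, h3⟩ T
    exact (key T).mpr ⟨⟨h1 T, h2 T⟩, fun n => h3 n T⟩

theorem cochain_uexact_iff {K : CochainComplex (ModuleCat.{u} R) ℕ} {M : ModuleCat.{u} R}
    (η : (CochainComplex.single₀ (ModuleCat.{u} R)).obj M ⟶ K) :
    (∀ T : ModuleCat.{u} R,
      QuasiIso (((MonoidalCategory.tensorRight T).mapHomologicalComplex (ComplexShape.up ℕ)).map η)) ↔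
    (UExact (η.f 0) (K.d 0 1) ∧ ∀ (T : Type u) [AddCommGroup T] [Module R T],
        Function.Injective ((η.f 0).hom.rTensor T)) ∧
      ∀ n, UExact (K.d n (n + 1)) (K.d (n + 1) (n + 2)) := by
  have key : ∀ T : ModuleCat.{u} R,
      QuasiIso (((MonoidalCategory.tensorRight T).mapHomologicalComplex (ComplexShape.up ℕ)).map η) ↔
      (Function.Exact ((η.f 0).hom.rTensor T) ((K.d 0 1).hom.rTensor T) ∧
        Function.Injective ((η.f 0).hom.rTensor T)) ∧
      ∀ n, Function.Exact ((K.d n (n + 1)).hom.rTensor T) ((K.d (n + 1) (n + 2)).hom.rTensor T) := by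
    intro T
    rw [← quasiIso_iff_comp_left
      ((HomologicalComplex.singleMapHomologicalComplex (MonoidalCategory.tensorRight T)
        (ComplexShape.up ℕ) 0).inv.app M) _]
    refine (quasiIso_from_single₀_iff (K := ((MonoidalCategory.tensorRight T).mapHomologicalComplex _).obj K)
      ((HomologicalComplex.singleMapHomologicalComplex (MonoidalCategory.tensorRight T)
        (ComplexShape.up ℕ) 0).inv.app M ≫
      ((MonoidalCategory.tensorRight T).mapHomologicalComplex (ComplexShape.up ℕ)).map η)).trans ?_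
    simp [ModuleCat.hom_whiskerRight, HomologicalComplex.singleObjXSelf, HomologicalComplex.singleObjXIsoOfEq]
    rfl
  constructor
  · intro h
    exact ⟨⟨fun T _ _ => ((key (ModuleCat.of R T)).mp (h _)).1.1,
      fun T _ _ => ((key (ModuleCat.of R T)).mp (h _)).1.2⟩,
      fun n T _ _ => ((key (ModuleCat.of R T)).mp (h _)).2 n⟩
  · rintro ⟨⟨h1, h2⟩, h3⟩ T
    exact (key T).mpr ⟨⟨h1 T, h2 T⟩, fun n => h3 n T⟩

section chain
variable {M N : ModuleCat.{u} R} (f : M ⟶ N) {P N' : ChainComplex (ModuleCat.{u} R) ℕ}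
  (π : P ⟶ (ChainComplex.single₀ (ModuleCat.{u} R)).obj M)
  (ε : N' ⟶ (ChainComplex.single₀ (ModuleCat.{u} R)).obj N)
  (hP : ∀ n, PureProj R (P.X n))
  (hN' : ∀ T : ModuleCat.{u} R,
      QuasiIso (((MonoidalCategory.tensorRight T).mapHomologicalComplex (ComplexShape.down ℕ)).map ε))

include hP hN'

theorem lift_zero (φ : P.X 0 ⟶ N) : ∃ ψ : P.X 0 ⟶ N'.X 0, ψ ≫ ε.f 0 = φ := by
  obtain ⟨⟨h0, h0'⟩, h⟩ := (chain_uexact_iff ε).mp hN'
  refine lift_step (hP 0) (N'.d 1 0) (ε.f 0) h0.exact (h 0).pure_range φ fun p => ?_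
  exact surjective_of_rTensor _ (h0' R) (φ.hom p)

theorem lift_one (m : ℕ) (φ : P.X m ⟶ N'.X 0) (hφ : φ ≫ ε.f 0 = 0) :
    ∃ ψ : P.X m ⟶ N'.X 1, ψ ≫ N'.d 1 0 = φ := by
  obtain ⟨⟨h0, -⟩, h⟩ := (chain_uexact_iff ε).mp hN'
  refine lift_step (hP m) (N'.d 2 1) (N'.d 1 0) (h 0).exact (h 1).pure_range φ fun p => ?_
  exact (h0.exact _).mp (LinearMap.congr_fun (congrArg ModuleCat.Hom.hom hφ) p)

theorem lift_succ (m n : ℕ) (φ : P.X m ⟶ N'.X (n + 1)) (hφ : φ ≫ N'.d (n + 1) n = 0) :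
    ∃ ψ : P.X m ⟶ N'.X (n + 2), ψ ≫ N'.d (n + 2) (n + 1) = φ := by
  obtain ⟨-, h⟩ := (chain_uexact_iff ε).mp hN'
  refine lift_step (hP m) (N'.d (n + 3) (n + 2)) (N'.d (n + 2) (n + 1)) (h (n + 1)).exact (h (n + 2)).pure_range φ
    fun p => ?_
  exact ((h n).exact _).mp (LinearMap.congr_fun (congrArg ModuleCat.Hom.hom hφ) p)

theorem exists_chainMap :
    ∃ φ : P ⟶ N', φ ≫ ε = π ≫ (ChainComplex.single₀ (ModuleCat.{u} R)).map f := by
  choose g₀ hg₀ using lift_zero ε hP hN'
  choose g₁ hg₁ using lift_one ε hP hN' 1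
  choose gs hgs using lift_succ ε hP hN'
  have hπ : P.d 1 0 ≫ π.f 0 = 0 := by rw [← π.comm 1 0, HomologicalComplex.single_obj_d, comp_zero]
  have hπ' : P.d 1 0 ≫ π.f 0 ≫ f = 0 :=
    (Category.assoc _ _ _).symm.trans ((congrArg (· ≫ f) hπ).trans zero_comp)
  have h1 : (P.d 1 0 ≫ g₀ (π.f 0 ≫ f)) ≫ ε.f 0 = 0 :=
    (Category.assoc _ _ _).trans ((congrArg (P.d 1 0 ≫ ·) (hg₀ _)).trans hπ')
  refine ⟨ChainComplex.mkHom P N' (g₀ (π.f 0 ≫ f)) (g₁ _ h1) (hg₁ _ h1) fun n p =>
    ⟨gs (n + 2) n (P.d (n + 2) (n + 1) ≫ p.2.1)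
      (by rw [Category.assoc, p.2.2, ← Category.assoc, HomologicalComplex.d_comp_d, zero_comp]),
      hgs _ _ _ _⟩, ?_⟩
  ext : 1
  simp [hg₀]
  exact hg₀ _

theorem nonempty_homotopy (α β : P ⟶ N') (hα : α ≫ ε = π ≫ (ChainComplex.single₀ (ModuleCat.{u} R)).map f)
    (hβ : β ≫ ε = π ≫ (ChainComplex.single₀ (ModuleCat.{u} R)).map f) : Nonempty (Homotopy α β) := by
  let e := α - β
  have he : e ≫ ε = 0 := by simp [e, Preadditive.sub_comp, hα, hβ]
  choose g₁ hg₁ using lift_one ε hP hN' 0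
  choose gs hgs using lift_succ ε hP hN'
  have h0 : e.f 0 ≫ ε.f 0 = 0 := by
    rw [← HomologicalComplex.comp_f, he]; rfl
  have h1 : (e.f 1 - P.d 1 0 ≫ g₁ _ h0) ≫ N'.d 1 0 = 0 := by
    rw [Preadditive.sub_comp, Category.assoc, hg₁, ← e.comm 1 0, sub_self]
  refine ⟨Homotopy.equivSubZero.invFun (Homotopy.mkInductive e (g₁ _ h0) (hg₁ _ h0).symm
    (gs 1 0 _ h1) (by rw [hgs]; abel) fun n p =>
    ⟨gs (n + 2) (n + 1) (e.f (n + 2) - P.d (n + 2) (n + 1) ≫ p.2.1) (by
      have w := congrArg (P.d (n + 2) (n + 1) ≫ ·) p.2.2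
      simp only [Preadditive.comp_add, HomologicalComplex.d_comp_d_assoc, zero_comp, zero_add] at w
      rw [Preadditive.sub_comp, Category.assoc, e.comm, w, sub_self]), by rw [hgs]; abel⟩)⟩

end chain

section cochain
variable {M N : ModuleCat.{u} R} (f : M ⟶ N) {M' I : CochainComplex (ModuleCat.{u} R) ℕ}
  (η : (CochainComplex.single₀ (ModuleCat.{u} R)).obj M ⟶ M')
  (ε : (CochainComplex.single₀ (ModuleCat.{u} R)).obj N ⟶ I)
  (hM' : ∀ T : ModuleCat.{u} R,
      QuasiIso (((MonoidalCategory.tensorRight T).mapHomologicalComplex (ComplexShape.up ℕ)).map η))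
  (hI : ∀ n, PureInj R (I.X n))

include hM' hI

theorem ext_zero (φ : M ⟶ I.X 0) : ∃ ψ : M'.X 0 ⟶ I.X 0, η.f 0 ≫ ψ = φ := by
  obtain ⟨⟨-, h0⟩, -⟩ := (cochain_uexact_iff η).mp hM'
  obtain ⟨ψ, hψ⟩ := hI 0 (η.f 0).hom h0 φ.hom
  exact ⟨ModuleCat.ofHom ψ, ModuleCat.hom_ext hψ⟩

theorem ext_one (m : ℕ) (φ : M'.X 0 ⟶ I.X m) (hφ : η.f 0 ≫ φ = 0) :
    ∃ ψ : M'.X 1 ⟶ I.X m, M'.d 0 1 ≫ ψ = φ := by
  obtain ⟨⟨h0, -⟩, h⟩ := (cochain_uexact_iff η).mp hM'
  refine ext_step (hI m) _ h0.pure_range φ fun x hx => ?_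
  obtain ⟨y, rfl⟩ := (h0.exact x).mp hx
  exact LinearMap.congr_fun (congrArg ModuleCat.Hom.hom hφ) y

theorem ext_succ (m n : ℕ) (φ : M'.X (n + 1) ⟶ I.X m) (hφ : M'.d n (n + 1) ≫ φ = 0) :
    ∃ ψ : M'.X (n + 2) ⟶ I.X m, M'.d (n + 1) (n + 2) ≫ ψ = φ := by
  obtain ⟨-, h⟩ := (cochain_uexact_iff η).mp hM'
  refine ext_step (hI m) _ (h n).pure_range φ fun x hx => ?_
  obtain ⟨y, rfl⟩ := ((h n).exact x).mp hx
  exact LinearMap.congr_fun (congrArg ModuleCat.Hom.hom hφ) y

theorem exists_cochainMap :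
    ∃ φ : M' ⟶ I, η ≫ φ = (CochainComplex.single₀ (ModuleCat.{u} R)).map f ≫ ε := by
  choose g₀ hg₀ using ext_zero η hM' hI
  choose g₁ hg₁ using ext_one η hM' hI 1
  choose gs hgs using ext_succ η hM' hI
  have hε : ε.f 0 ≫ I.d 0 1 = 0 := by rw [ε.comm 0 1, HomologicalComplex.single_obj_d, zero_comp]
  have hε' : (f ≫ ε.f 0) ≫ I.d 0 1 = 0 :=
    (Category.assoc _ _ _).trans ((congrArg (f ≫ ·) hε).trans comp_zero)
  have h1 : η.f 0 ≫ g₀ (f ≫ ε.f 0) ≫ I.d 0 1 = 0 :=
    (Category.assoc _ _ _).symm.trans ((congrArg (· ≫ I.d 0 1) (hg₀ _)).trans hε')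
  refine ⟨CochainComplex.mkHom M' I (g₀ (f ≫ ε.f 0)) (g₁ _ h1) (hg₁ _ h1).symm fun n p =>
    ⟨gs (n + 2) n (p.2.1 ≫ I.d (n + 1) (n + 2))
      (by rw [← Category.assoc, ← p.2.2, Category.assoc, HomologicalComplex.d_comp_d, comp_zero]),
      (hgs _ _ _ _).symm⟩, ?_⟩
  ext : 1
  simp [hg₀]
  exact hg₀ _

theorem nonempty_cohomotopy (α β : M' ⟶ I) (hα : η ≫ α = (CochainComplex.single₀ (ModuleCat.{u} R)).map f ≫ ε)
    (hβ : η ≫ β = (CochainComplex.single₀ (ModuleCat.{u} R)).map f ≫ ε) : Nonempty (Homotopy α β) := by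
  let e := α - β
  have he : η ≫ e = 0 := by simp [e, Preadditive.comp_sub, hα, hβ]
  choose g₁ hg₁ using ext_one η hM' hI 0
  choose gs hgs using ext_succ η hM' hI
  have h0 : η.f 0 ≫ e.f 0 = 0 := by
    rw [← HomologicalComplex.comp_f, he]; rfl
  have h1 : M'.d 0 1 ≫ (e.f 1 - g₁ _ h0 ≫ I.d 0 1) = 0 := by
    rw [Preadditive.comp_sub, ← Category.assoc, hg₁, ← e.comm 0 1, sub_self]
  refine ⟨Homotopy.equivSubZero.invFun (Homotopy.mkCoinductive e (g₁ _ h0) (hg₁ _ h0).symm
    (gs 1 0 _ h1) (by rw [hgs]; abel) fun n p =>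
    ⟨gs (n + 2) (n + 1) (e.f (n + 2) - p.2.1 ≫ I.d (n + 1) (n + 2)) (by
      have w := congrArg (· ≫ I.d (n + 1) (n + 2)) p.2.2
      simp only [Preadditive.add_comp, Category.assoc, HomologicalComplex.d_comp_d, comp_zero, zero_add] at w
      rw [Preadditive.comp_sub, ← e.comm, w, sub_self]), by rw [hgs]; abel⟩)⟩

end cochain

/-- A pure cover by a pure projective module. -/
theorem exists_cover (M : ModuleCat.{u} R) : ∃ (A : ModuleCat.{u} R) (π : A ⟶ M),
    IsFPSummand R A ∧ Function.Surjective π.hom ∧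
      CAlgX.UniversallyInjective R (LinearMap.ker π.hom).subtype := by
  obtain ⟨ι, Q, _, _, hQ, g, hg, hp⟩ := exists_pure_cover (R := R) M
  exact ⟨ModuleCat.of R (Π₀ i, Q i), ModuleCat.ofHom g,
    ⟨ι, Q, inferInstance, inferInstance, hQ, LinearMap.id, LinearMap.id, rfl⟩, hg, hp⟩

noncomputable def coverObj (M : ModuleCat.{u} R) : ModuleCat.{u} R := (exists_cover M).choose
noncomputable def coverMap (M : ModuleCat.{u} R) : coverObj M ⟶ M := (exists_cover M).choose_spec.choose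

theorem cover_spec (M : ModuleCat.{u} R) :
    IsFPSummand R (coverObj M) ∧ Function.Surjective (coverMap M).hom ∧
      CAlgX.UniversallyInjective R (LinearMap.ker (coverMap M).hom).subtype :=
  (exists_cover M).choose_spec.choose_spec

noncomputable def stage (M : ModuleCat.{u} R) : ℕ → Σ' (B A : ModuleCat.{u} R), A ⟶ B
  | 0 => ⟨M, coverObj M, coverMap M⟩
  | n + 1 => ⟨(stage M n).2.1, coverObj (ModuleCat.of R (LinearMap.ker (stage M n).2.2.hom)),
      coverMap _ ≫ ModuleCat.ofHom (LinearMap.ker (stage M n).2.2.hom).subtype⟩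

theorem stage_fp (M : ModuleCat.{u} R) : ∀ n, IsFPSummand R (stage M n).2.1
  | 0 => (cover_spec M).1
  | _ + 1 => (cover_spec _).1

theorem stage_pure (M : ModuleCat.{u} R) :
    ∀ n, CAlgX.UniversallyInjective R (LinearMap.ker (stage M n).2.2.hom).subtype
  | 0 => (cover_spec M).2.2
  | n + 1 => by
    have h : LinearMap.ker (stage M (n + 1)).2.2.hom =
        LinearMap.ker (coverMap (ModuleCat.of R (LinearMap.ker (stage M n).2.2.hom))).hom :=
      LinearMap.ker_comp_of_ker_eq_bot _ (Submodule.ker_subtype _)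
    rw [h]
    exact (cover_spec _).2.2

theorem stage_exact (M : ModuleCat.{u} R) (n : ℕ) :
    Function.Exact (stage M (n + 1)).2.2.hom (stage M n).2.2.hom := by
  refine LinearMap.exact_iff.mpr ?_
  show _ = LinearMap.range ((LinearMap.ker (stage M n).2.2.hom).subtype ∘ₗ _)
  exact ((LinearMap.range_comp_of_range_eq_top _ (LinearMap.range_eq_top.mpr (cover_spec _).2.1)).trans
    (Submodule.range_subtype _)).symm

theorem pure_of_eq {B : Type u} [AddCommGroup B] [Module R B] {S S' : Submodule R B} (h : S = S')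
    (hS : CAlgX.UniversallyInjective R S.subtype) : CAlgX.UniversallyInjective R S'.subtype := h ▸ hS

theorem pure_top {B : Type u} [AddCommGroup B] [Module R B] :
    CAlgX.UniversallyInjective R (⊤ : Submodule R B).subtype :=
  fun Q _ _ => (LinearEquiv.rTensor Q (Submodule.topEquiv (R := R) (M := B))).injective

theorem stage_uexact (M : ModuleCat.{u} R) : ∀ n, UExact (stage M (n + 1)).2.2 (stage M n).2.2
  | 0 => fun T _ _ => by
    refine exact_of_pure_range _ _ (stage_exact M 0) ?_ T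
    exact pure_of_eq (LinearMap.range_eq_top.mpr (cover_spec M).2.1).symm pure_top
  | n + 1 => fun T _ _ => by
    refine exact_of_pure_range _ _ (stage_exact M (n + 1)) ?_ T
    exact pure_of_eq (stage_exact M n).linearMap_ker_eq (stage_pure M n)

theorem exists_resolution (M : ModuleCat.{u} R) :
    ∃ (P : ChainComplex (ModuleCat.{u} R) ℕ) (π : P ⟶ (ChainComplex.single₀ (ModuleCat.{u} R)).obj M),
      (∀ n : ℕ, IsFPSummand R (P.X n)) ∧
      ∀ N : ModuleCat.{u} R,
        QuasiIso (((MonoidalCategory.tensorRight N).mapHomologicalComplex (ComplexShape.down ℕ)).map π) := by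
  have hsq : ∀ n, (stage M (n + 1)).2.2 ≫ (stage M n).2.2 = 0 := fun n =>
    ModuleCat.hom_ext (stage_exact M n).linearMap_comp_eq_zero
  let P : ChainComplex (ModuleCat.{u} R) ℕ :=
    ChainComplex.of (fun n => (stage M n).2.1) (fun n => (stage M (n + 1)).2.2) (fun n => hsq (n + 1))
  have hd : ∀ n, P.d (n + 1) n = (stage M (n + 1)).2.2 := fun n =>
    ChainComplex.of_d (fun n => (stage M n).2.1) (fun n => (stage M (n + 1)).2.2) n
  let π : P ⟶ (ChainComplex.single₀ (ModuleCat.{u} R)).obj M :=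
    (P.toSingle₀Equiv M).symm ⟨(stage M 0).2.2, by rw [hd 0]; exact hsq 0⟩
  have hπ : π.f 0 = (stage M 0).2.2 := ChainComplex.toSingle₀Equiv_symm_apply_f_zero _ _
  refine ⟨P, π, stage_fp M, (chain_uexact_iff π).mpr ⟨⟨?_, fun T _ _ => ?_⟩, fun n => ?_⟩⟩
  · rw [hπ, hd 0]; exact stage_uexact M 0
  · rw [hπ]; exact LinearMap.rTensor_surjective T (cover_spec M).2.1
  · rw [hd (n + 1), hd n]; exact stage_uexact M (n + 1)

/-- The double character module, as an object. -/
noncomputable def hull (M : ModuleCat.{u} R) : ModuleCat.{u} R :=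
  ModuleCat.of R (CharacterModule (CharacterModule M))

noncomputable def hullMap (M : ModuleCat.{u} R) : M ⟶ hull M := ModuleCat.ofHom (PureExt.charEval R M)

noncomputable def costage (M : ModuleCat.{u} R) : ℕ → Σ' (B A : ModuleCat.{u} R), B ⟶ A
  | 0 => ⟨M, hull M, hullMap M⟩
  | n + 1 => ⟨(costage M n).2.1, hull (ModuleCat.of R ((costage M n).2.1 ⧸ LinearMap.range (costage M n).2.2.hom)),
      ModuleCat.ofHom (LinearMap.range (costage M n).2.2.hom).mkQ ≫ hullMap _⟩

theorem costage_inj (M : ModuleCat.{u} R) : ∀ n, PureInj R (costage M n).2.1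
  | 0 => pureInj_characterModule _
  | _ + 1 => pureInj_characterModule _

theorem costage_uexact (M : ModuleCat.{u} R) (n : ℕ) : UExact (costage M n).2.2 (costage M (n + 1)).2.2 := by
  intro T _ _ z
  rw [← rTensor_exact T (LinearMap.exact_map_mkQ_range (costage M n).2.2.hom)
    (LinearMap.range (costage M n).2.2.hom).mkQ_surjective z]
  show (((PureExt.charEval R ((costage M n).2.1 ⧸ LinearMap.range (costage M n).2.2.hom)) ∘ₗ
    (LinearMap.range (costage M n).2.2.hom).mkQ).rTensor T) z = 0 ↔ _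
  rw [LinearMap.rTensor_comp, LinearMap.comp_apply,
    map_eq_zero_iff _ (universallyInjective_charEval (R := R) _ T)]

theorem exists_coresolution (M : ModuleCat.{u} R) :
    ∃ (I : CochainComplex (ModuleCat.{u} R) ℕ) (η : (CochainComplex.single₀ (ModuleCat.{u} R)).obj M ⟶ I),
      (∀ n : ℕ, PureInj R (I.X n)) ∧
      ∀ T : ModuleCat.{u} R,
      QuasiIso (((MonoidalCategory.tensorRight T).mapHomologicalComplex (ComplexShape.up ℕ)).map η) := by
  have hsq : ∀ n, (costage M n).2.2 ≫ (costage M (n + 1)).2.2 = 0 := fun n =>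
    ModuleCat.hom_ext (costage_uexact M n).exact.linearMap_comp_eq_zero
  let I : CochainComplex (ModuleCat.{u} R) ℕ :=
    CochainComplex.of (fun n => (costage M n).2.1) (fun n => (costage M (n + 1)).2.2) (fun n => hsq (n + 1))
  have hd : ∀ n, I.d n (n + 1) = (costage M (n + 1)).2.2 := fun n =>
    CochainComplex.of_d (fun n => (costage M n).2.1) (fun n => (costage M (n + 1)).2.2) n
  let η : (CochainComplex.single₀ (ModuleCat.{u} R)).obj M ⟶ I :=
    (I.fromSingle₀Equiv M).symm ⟨(costage M 0).2.2, by rw [hd 0]; exact hsq 0⟩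
  have hη : η.f 0 = (costage M 0).2.2 := CochainComplex.fromSingle₀Equiv_symm_apply_f_zero _ _
  refine ⟨I, η, costage_inj M, (cochain_uexact_iff η).mpr ⟨⟨?_, fun T _ _ => ?_⟩, fun n => ?_⟩⟩
  · rw [hη, hd 0]; exact costage_uexact M 0
  · rw [hη]; exact universallyInjective_charEval (R := R) M T
  · rw [hd (n + 1), hd n]; exact costage_uexact M (n + 1)

end Groth.Agent.PureExt8
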